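import Groth.Agent.Lib.Helper7.QuadGrp.Half2
import Mathlib.LinearAlgebra.Matrix.ToLin
import Mathlib.LinearAlgebra.Determinant

/-! Transformation behaviour of the half-discriminant (helper7). -/

set_option autoImplicit false

namespace Groth.Agent.H7.QG

open MvPolynomial Matrix

section Poly

variable {S : Type*} [CommRing S] {n : ℕ}

/-- upper triangular matrix of coefficients -/
def triMat (a : Sym2 (Fin n) → S) : Matrix (Fin n) (Fin n) S :=
  Matrix.of fun k l => if k ≤ l then a (Sym2.mk k l) else 0

/-- polar matrix of a coefficient system -/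
def polMat (a : Sym2 (Fin n) → S) : Matrix (Fin n) (Fin n) S :=
  Matrix.of fun i j => if i = j then 2 * a (Sym2.mk i j) else a (Sym2.mk i j)

theorem polMat_eq (a : Sym2 (Fin n) → S) : polMat a = triMat a + (triMat a).transpose := by
  ext i j
  simp only [polMat, triMat, Matrix.of_apply, Matrix.add_apply, Matrix.transpose_apply]
  rcases lt_trichotomy i j with h | h | h
  · rw [if_neg h.ne, if_pos h.le, if_neg (not_le.2 h), add_zero]
  · subst h; simp [two_mul]
  · rw [if_neg h.ne', if_neg (not_le.2 h), if_pos h.le, zero_add, Sym2.eq_swap]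

/-- transformed coefficients -/
def transCoeffs (a : Sym2 (Fin n) → S) (G : Matrix (Fin n) (Fin n) S) : Sym2 (Fin n) → S :=
  Sym2.lift ⟨fun i j => if i = j then (G.transpose * triMat a * G) i i
    else (G.transpose * polMat a * G) i j, fun i j => by
    dsimp only
    by_cases h : i = j
    · subst h; rfl
    · rw [if_neg h, if_neg (Ne.symm h)]
      have hsymm : (G.transpose * polMat a * G).transpose = G.transpose * polMat a * G := by
        rw [Matrix.transpose_mul, Matrix.transpose_mul, Matrix.transpose_transpose, polMat_eq,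
          Matrix.transpose_add, Matrix.transpose_transpose, add_comm, Matrix.mul_assoc]
      conv_lhs => rw [← hsymm]
      rfl⟩

theorem transCoeffs_mk (a : Sym2 (Fin n) → S) (G : Matrix (Fin n) (Fin n) S) (i j : Fin n) :
    transCoeffs a G (Sym2.mk i j) = if i = j then (G.transpose * triMat a * G) i i
      else (G.transpose * polMat a * G) i j := rfl

theorem polMat_transCoeffs (a : Sym2 (Fin n) → S) (G : Matrix (Fin n) (Fin n) S) :
    polMat (transCoeffs a G) = G.transpose * polMat a * G := by
  ext i j
  rw [polMat, Matrix.of_apply]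
  by_cases h : i = j
  · subst h
    rw [if_pos rfl, transCoeffs_mk, if_pos rfl, polMat_eq, Matrix.mul_add, Matrix.add_mul,
      Matrix.add_apply, two_mul]
    congr 1
    have : G.transpose * (triMat a).transpose * G = (G.transpose * triMat a * G).transpose := by
      rw [Matrix.transpose_mul, Matrix.transpose_mul, Matrix.transpose_transpose, Matrix.mul_assoc]
    rw [this, Matrix.transpose_apply]
  · rw [if_neg h, transCoeffs_mk, if_neg h]

/-- the half-discriminant of a coefficient system -/
noncomputable def hd (a : Sym2 (Fin n) → S) : S :=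
  eval₂ (Int.castRingHom S) a (QuadGrp.halfDiscUniv n)

/-- the discriminant of a coefficient system -/
noncomputable def dd (a : Sym2 (Fin n) → S) : S :=
  eval₂ (Int.castRingHom S) a (QuadGrp.discUniv n)

theorem dd_eq_det (a : Sym2 (Fin n) → S) : dd a = (polMat a).det := by
  rw [dd, QuadGrp.discUniv, ← coe_eval₂Hom, RingHom.map_det]
  congr 1
  ext i j
  simp only [RingHom.mapMatrix_apply, Matrix.map_apply, QuadGrp.univPolarMat, polMat,
    Matrix.of_apply]
  split_ifs <;> simp

theorem dd_transCoeffs (a : Sym2 (Fin n) → S) (G : Matrix (Fin n) (Fin n) S) :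
    dd (transCoeffs a G) = G.det ^ 2 * dd a := by
  rw [dd_eq_det, dd_eq_det, polMat_transCoeffs, Matrix.det_mul, Matrix.det_mul,
    Matrix.det_transpose]
  ring

theorem two_mul_hd (hn : Odd n) (a : Sym2 (Fin n) → S) : 2 * hd a = dd a := by
  rw [dd, discUniv_eq_two_mul_halfDiscUniv n hn, eval₂_mul, hd]
  congr 1
  rw [← coe_eval₂Hom, map_ofNat]

theorem hd_transCoeffs_of_regular (hn : Odd n) (h2 : ∀ x : S, 2 * x = 0 → x = 0)
    (a : Sym2 (Fin n) → S) (G : Matrix (Fin n) (Fin n) S) :
    hd (transCoeffs a G) = G.det ^ 2 * hd a := by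
  apply sub_eq_zero.1
  apply h2
  have h1 := two_mul_hd hn (transCoeffs a G)
  rw [dd_transCoeffs, ← two_mul_hd hn a] at h1
  linear_combination h1

end Poly

section Natural

variable {S S' : Type*} [CommRing S] [CommRing S'] {n : ℕ} (φ : S →+* S')

theorem map_hd (a : Sym2 (Fin n) → S) : φ (hd a) = hd (φ ∘ a) := by
  rw [hd, hd, eval₂_comp_left]
  congr 1
  exact RingHom.ext_int _ _

theorem map_triMat (a : Sym2 (Fin n) → S) : φ.mapMatrix (triMat a) = triMat (φ ∘ a) := by
  ext i j
  simp only [RingHom.mapMatrix_apply, Matrix.map_apply, triMat, Matrix.of_apply]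
  split_ifs <;> simp

theorem map_polMat (a : Sym2 (Fin n) → S) : φ.mapMatrix (polMat a) = polMat (φ ∘ a) := by
  ext i j
  simp only [RingHom.mapMatrix_apply, Matrix.map_apply, polMat, Matrix.of_apply]
  split_ifs
  · rw [map_mul, map_ofNat]; rfl
  · rfl

theorem map_transCoeffs (a : Sym2 (Fin n) → S) (G : Matrix (Fin n) (Fin n) S) :
    φ ∘ transCoeffs a G = transCoeffs (φ ∘ a) (φ.mapMatrix G) := by
  funext s
  induction s using Sym2.ind with
  | _ i j =>
    have key : ∀ T : Matrix (Fin n) (Fin n) S, φ.mapMatrix (G.transpose * T * G) =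
        (φ.mapMatrix G).transpose * φ.mapMatrix T * φ.mapMatrix G := by
      intro T
      rw [map_mul, map_mul]
      rfl
    rw [Function.comp_apply, transCoeffs_mk, transCoeffs_mk, ← map_triMat, ← map_polMat,
      ← key, ← key]
    split_ifs <;> rfl

/-- the general transformation formula for the half-discriminant of a coefficient system -/
theorem hd_transCoeffs (hn : Odd n) (a : Sym2 (Fin n) → S) (G : Matrix (Fin n) (Fin n) S) :
    hd (transCoeffs a G) = G.det ^ 2 * hd a := by
  -- universal case
  let U := MvPolynomial (Sym2 (Fin n) ⊕ Fin n × Fin n) ℤ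
  let aU : Sym2 (Fin n) → U := fun s => X (Sum.inl s)
  let GU : Matrix (Fin n) (Fin n) U := Matrix.of fun k i => X (Sum.inr (k, i))
  have hU : hd (transCoeffs aU GU) = GU.det ^ 2 * hd aU := by
    apply hd_transCoeffs_of_regular hn
    intro x hx
    rcases mul_eq_zero.1 hx with h | h
    · exfalso
      have h3 : (C (2 : ℤ) : U) = 0 := by
        rw [← h]; simp
      have := congrArg (coeff 0) h3
      rw [coeff_C, if_pos rfl, coeff_zero] at this
      norm_num at this
    · exact h
  let ev : U →+* S := eval₂Hom (Int.castRingHom S) (Sum.elim a (fun p => G p.1 p.2))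
  have h1 : ev ∘ aU = a := by
    funext s
    show eval₂ _ _ (X _) = _
    rw [eval₂_X]; rfl
  have h2 : ev.mapMatrix GU = G := by
    ext k i
    show eval₂ _ _ (X _) = _
    rw [eval₂_X]; rfl
  have h3 := congrArg ev hU
  rw [map_hd, map_transCoeffs, h1, h2, map_mul, map_pow, RingHom.map_det, h2, map_hd, h1] at h3
  exact h3

end Natural

section Module

variable {R : Type*} [CommRing R] {M : Type*} [AddCommGroup M] [Module R M] {n : ℕ}

theorem coeffs_comp (b : Module.Basis (Fin n) R M) (Q : QuadraticForm R M) (g : M →ₗ[R] M) :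
    QuadGrp.coeffs b (LinearEquiv.refl R R) (Q.comp g) =
      transCoeffs (QuadGrp.coeffs b (LinearEquiv.refl R R) Q) (LinearMap.toMatrix b b g) := by
  have hβ : ∀ k l, Q.toBilin b (b k) (b l) =
      triMat (QuadGrp.coeffs b (LinearEquiv.refl R R) Q) k l := by
    intro k l
    rw [QuadraticMap.toBilin_apply, triMat, Matrix.of_apply, QuadGrp.coeffs_mk]
    rcases lt_trichotomy k l with h | h | h
    · rw [if_neg h.ne, if_pos h, if_pos h.le, if_neg h.ne]; rfl
    · subst h; simp
    · rw [if_neg h.ne', if_neg (not_lt.2 h.le), if_neg (not_le.2 h)]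
  have hg : ∀ i, g (b i) = ∑ k, (LinearMap.toMatrix b b g) k i • b k := by
    intro i
    conv_lhs => rw [← b.sum_repr (g (b i))]
    refine Finset.sum_congr rfl fun k _ => ?_
    rw [LinearMap.toMatrix_apply]
  have hββ : ∀ i j, Q.toBilin b (g (b i)) (g (b j)) =
      ((LinearMap.toMatrix b b g).transpose *
        triMat (QuadGrp.coeffs b (LinearEquiv.refl R R) Q) * LinearMap.toMatrix b b g) i j := by
    intro i j
    rw [hg i, hg j]
    simp only [map_sum, LinearMap.sum_apply, map_smul, LinearMap.smul_apply, hβ, smul_eq_mul,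
      Matrix.mul_apply, Matrix.transpose_apply, Finset.sum_mul, Finset.mul_sum]
    refine Finset.sum_congr rfl fun l _ => Finset.sum_congr rfl fun k _ => ?_
    ring
  have hQ : ∀ x, Q x = Q.toBilin b x x := by
    intro x
    rw [← LinearMap.BilinMap.toQuadraticMap_apply, QuadraticMap.toQuadraticMap_toBilin]
  have hpol : ∀ x y, QuadraticMap.polar Q x y = Q.toBilin b x y + Q.toBilin b y x := by
    intro x y
    rw [← LinearMap.BilinMap.polar_toQuadraticMap, QuadraticMap.toQuadraticMap_toBilin]
  funext s
  induction s using Sym2.ind with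
  | _ i j =>
    rw [QuadGrp.coeffs_mk, transCoeffs_mk]
    by_cases h : i = j
    · subst h
      rw [if_pos rfl, if_pos rfl, LinearEquiv.refl_apply, QuadraticMap.comp_apply, hQ, hββ]
    · rw [if_neg h, if_neg h, LinearEquiv.refl_apply]
      have h1 : QuadraticMap.polar (Q.comp g) (b i) (b j) =
          QuadraticMap.polar Q (g (b i)) (g (b j)) := by
        simp only [QuadraticMap.polar, QuadraticMap.comp_apply, map_add]
      rw [h1, hpol, hββ, hββ, polMat_eq, Matrix.mul_add, Matrix.add_mul, Matrix.add_apply]
      congr 1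
      have : (LinearMap.toMatrix b b g).transpose *
          (triMat (QuadGrp.coeffs b (LinearEquiv.refl R R) Q)).transpose *
          LinearMap.toMatrix b b g = ((LinearMap.toMatrix b b g).transpose *
          triMat (QuadGrp.coeffs b (LinearEquiv.refl R R) Q) *
          LinearMap.toMatrix b b g).transpose := by
        rw [Matrix.transpose_mul, Matrix.transpose_mul, Matrix.transpose_transpose,
          Matrix.mul_assoc]
      rw [this, Matrix.transpose_apply]

/-- **S17014** -/
theorem halfDisc_comp (hn : Odd n) (b : Module.Basis (Fin n) R M) (Q : QuadraticForm R M)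
    (g : M →ₗ[R] M) :
    QuadGrp.halfDisc b (LinearEquiv.refl R R) (Q.comp g) =
      LinearMap.det g ^ 2 * QuadGrp.halfDisc b (LinearEquiv.refl R R) Q := by
  have h1 : QuadGrp.halfDisc b (LinearEquiv.refl R R) (Q.comp g) =
      hd (QuadGrp.coeffs b (LinearEquiv.refl R R) (Q.comp g)) := rfl
  have h2 : QuadGrp.halfDisc b (LinearEquiv.refl R R) Q =
      hd (QuadGrp.coeffs b (LinearEquiv.refl R R) Q) := rfl
  rw [h1, h2, coeffs_comp, hd_transCoeffs hn, LinearMap.det_toMatrix]

end Module

end Groth.Agent.H7.QG
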