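import Groth.Agent.Lib.Helper7.QuadGrp.Poly
import Mathlib.RingTheory.Localization.Away.Basic

/-! The functorial centre of `O(Q)` (helper7). -/

set_option autoImplicit false

namespace Groth.Agent.H7.QG

open TensorProduct MvPolynomial

universe u
variable {R : Type u} [CommRing R] {n : ℕ}

section Main

variable (Q : QuadraticForm R (Fin n → R))

theorem bilinLift_self (x : Fin n → R) : QuadGrp.bilinLift Q x x = Q x := by
  rw [← LinearMap.BilinMap.toQuadraticMap_apply, QuadGrp.bilinLift_spec]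

theorem bilinLift_polar (x y : Fin n → R) :
    QuadGrp.bilinLift Q x y + QuadGrp.bilinLift Q y x = QuadraticMap.polar Q x y := by
  rw [← LinearMap.BilinMap.polar_toQuadraticMap, QuadGrp.bilinLift_spec]

/-- the ideal generated by the values of the polar form is faithful -/
def PolarFaithful : Prop := ∀ r : R, (∀ x y, r * QuadraticMap.polar Q x y = 0) → r = 0

variable {Q}

theorem qpoly_regular (hPF : PolarFaithful Q) (r : R)
    (hr : C r * qpoly (QuadGrp.bilinLift Q) = 0) : r = 0 := by
  apply hPF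
  have h1 : ∀ z, r * Q z = 0 := by
    intro z
    have := congrArg (eval (Sum.elim z 0)) hr
    rwa [map_mul, eval_C, eval_qpoly, bilinLift_self, map_zero] at this
  intro x y
  rw [QuadraticMap.polar, mul_sub, mul_sub, h1, h1, h1, sub_zero, sub_zero]

theorem lpoly_regular (hPF : PolarFaithful Q) (r : R)
    (hr : C r * lpoly (QuadGrp.bilinLift Q) = 0) : r = 0 := by
  apply hPF
  intro x y
  have := congrArg (eval (Sum.elim x y)) hr
  rwa [map_mul, eval_C, eval_lpoly, bilinLift_polar, map_zero] at this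

theorem gpoly_identity (hPF : PolarFaithful Q) (g : (Fin n → R) ≃ₗ[R] (Fin n → R))
    (hcomm : ∀ (A : Type u) [CommRing A] [Algebra R A], ∀ h ∈ QuadGrp.orth Q A,
      g.baseChange R A (Fin n → R) (Fin n → R) * h = h * g.baseChange R A (Fin n → R) (Fin n → R))
    (j l : Fin n) :
    gpoly g j * X (Sum.inl l) - gpoly g l * X (Sum.inl j) = 0 := by
  let A := Localization.Away (qpoly (QuadGrp.bilinLift Q))
  let ξ : Fin n ⊕ Fin n → A := fun s => algebraMap (MvPolynomial (Fin n ⊕ Fin n) R) A (X s)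
  have hξ : ∀ p, aeval ξ p = algebraMap (MvPolynomial (Fin n ⊕ Fin n) R) A p := by
    intro p
    have := MvPolynomial.aeval_unique
      (IsScalarTower.toAlgHom R (MvPolynomial (Fin n ⊕ Fin n) R) A)
    exact (DFunLike.congr_fun this p).symm
  obtain ⟨u, hu⟩ : IsUnit (algebraMap (MvPolynomial (Fin n ⊕ Fin n) R) A (qpoly (QuadGrp.bilinLift Q))) :=
    IsLocalization.Away.algebraMap_isUnit (qpoly (QuadGrp.bilinLift Q))
  have hQv : AlgebraTensorModule.rid R A A (QuadGrp.baseChange A Q (vgen R A (ξ ∘ Sum.inl))) =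
      u := by
    rw [rid_baseChange_vgen, hu, ← hξ, aeval_qpoly]
    rfl
  have hτ := refl_mem_O (QuadGrp.baseChange A Q) (AlgebraTensorModule.rid R A A) _ u hQv
  have hc := hcomm A _ hτ
  have key := comm_consequence _ _ _ u hQv _ hc (vgen R A (ξ ∘ Sum.inr))
  have hΛ : AlgebraTensorModule.rid R A A (QuadraticMap.polar (QuadGrp.baseChange A Q)
      (vgen R A (ξ ∘ Sum.inl)) (vgen R A (ξ ∘ Sum.inr))) =
      algebraMap (MvPolynomial (Fin n ⊕ Fin n) R) A (lpoly (QuadGrp.bilinLift Q)) := by
    rw [rid_polar_vgen, ← hξ, aeval_lpoly]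
    rfl
  have hG : ∀ i, coord R A i (g.baseChange R A (Fin n → R) (Fin n → R)
      (vgen R A (ξ ∘ Sum.inl))) = algebraMap (MvPolynomial (Fin n ⊕ Fin n) R) A (gpoly g i) := by
    intro i
    rw [coord_baseChange_vgen, ← hξ, aeval_gpoly]
    rfl
  have kj := congrArg (coord R A j) key
  have kl := congrArg (coord R A l) key
  rw [map_smul, map_smul, hG, coord_vgen, smul_eq_mul, smul_eq_mul, hΛ] at kj kl
  have hzero : algebraMap (MvPolynomial (Fin n ⊕ Fin n) R) A
      (lpoly (QuadGrp.bilinLift Q) * (gpoly g j * X (Sum.inl l) - gpoly g l * X (Sum.inl j))) =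
      0 := by
    rw [map_mul, map_sub, map_mul, map_mul]
    simp only [Function.comp_apply] at kj kl
    linear_combination (ξ (Sum.inl l)) * kj - (ξ (Sum.inl j)) * kl
  rw [IsLocalization.map_eq_zero_iff (Submonoid.powers (qpoly (QuadGrp.bilinLift Q))) A] at hzero
  obtain ⟨⟨_, k, rfl⟩, hk⟩ := hzero
  have h1 := McCoy.eq_zero_of_pow_mul_eq_zero (qpoly (QuadGrp.bilinLift Q)) (qpoly_regular hPF) k _ hk
  exact McCoy.eq_zero_of_mul_eq_zero _ (lpoly_regular hPF) _ h1

theorem scalar_of_identity (hn : 0 < n) (g : (Fin n → R) ≃ₗ[R] (Fin n → R))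
    (hid : ∀ j l : Fin n, gpoly g j * X (Sum.inl l) - gpoly g l * X (Sum.inl j) = 0) :
    ∃ c : R, ∀ v, g v = c • v := by
  classical
  have key : ∀ (x : Fin n → R) (j l : Fin n), g x j * x l = g x l * x j := by
    intro x j l
    have := congrArg (eval (Sum.elim x (0 : Fin n → R))) (hid j l)
    rw [map_sub, map_mul, map_mul, eval_gpoly, eval_gpoly, eval_X, eval_X, map_zero,
      Sum.elim_inl, Sum.elim_inl] at this
    exact sub_eq_zero.1 this
  have hoff : ∀ j l : Fin n, j ≠ l → g (Pi.single l 1) j = 0 := by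
    intro j l hjl
    have := key (Pi.single l 1) j l
    rwa [Pi.single_eq_same, mul_one, Pi.single_eq_of_ne hjl, mul_zero] at this
  have hdiag : ∀ j l : Fin n, g (Pi.single j 1) j = g (Pi.single l 1) l := by
    intro j l
    by_cases hjl : j = l
    · rw [hjl]
    · have := key (Pi.single j 1 + Pi.single l 1) j l
      rw [map_add, Pi.add_apply, Pi.add_apply, Pi.add_apply, Pi.add_apply, Pi.single_eq_same,
        Pi.single_eq_same, Pi.single_eq_of_ne hjl, Pi.single_eq_of_ne (Ne.symm hjl),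
        hoff j l hjl, hoff l j (Ne.symm hjl)] at this
      simpa using this
  refine ⟨g (Pi.single ⟨0, hn⟩ 1) ⟨0, hn⟩, ?_⟩
  have hbasis : ∀ i : Fin n, g (Pi.single i 1) =
      g (Pi.single ⟨0, hn⟩ 1) ⟨0, hn⟩ • (Pi.single i 1 : Fin n → R) := by
    intro i
    funext j
    rw [Pi.smul_apply, smul_eq_mul]
    by_cases hji : j = i
    · subst hji
      rw [Pi.single_eq_same, mul_one]
      exact hdiag _ _
    · rw [Pi.single_eq_of_ne hji, mul_zero]
      exact hoff j i hji
  have hlin : g.toLinearMap = g (Pi.single ⟨0, hn⟩ 1) ⟨0, hn⟩ • LinearMap.id := by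
    apply (Pi.basisFun R (Fin n)).ext
    intro i
    rw [Pi.basisFun_apply, LinearMap.smul_apply, LinearMap.id_apply]
    exact hbasis i
  intro v
  have := LinearMap.congr_fun hlin v
  simpa using this

theorem sq_eq_one_of_scalar (hPF : PolarFaithful Q) (g : (Fin n → R) ≃ₗ[R] (Fin n → R))
    (hg : g ∈ QuadGrp.O Q) (c : R) (hc : ∀ v, g v = c • v) : c * c = 1 := by
  apply sub_eq_zero.1
  apply hPF
  intro x y
  have h1 : QuadraticMap.polar Q (g x) (g y) = QuadraticMap.polar Q x y := by
    rw [QuadraticMap.polar, QuadraticMap.polar, ← map_add, hg, hg, hg]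
  rw [hc, hc, QuadraticMap.polar_smul_left, QuadraticMap.polar_smul_right, smul_eq_mul,
    smul_eq_mul] at h1
  linear_combination h1

theorem comm_of_scalar (g : (Fin n → R) ≃ₗ[R] (Fin n → R)) (c : R) (hc : ∀ v, g v = c • v)
    (A : Type*) [CommRing A] [Algebra R A]
    (h : (A ⊗[R] (Fin n → R)) ≃ₗ[A] (A ⊗[R] (Fin n → R))) :
    g.baseChange R A (Fin n → R) (Fin n → R) * h =
      h * g.baseChange R A (Fin n → R) (Fin n → R) := by
  have hgA : ∀ z, g.baseChange R A (Fin n → R) (Fin n → R) z = (algebraMap R A c) • z := by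
    intro z
    induction z using TensorProduct.induction_on with
    | zero => simp
    | tmul a m =>
      rw [LinearEquiv.baseChange_tmul, hc, TensorProduct.tmul_smul, algebraMap_smul]
    | add z w hz hw => rw [map_add, hz, hw, smul_add]
  ext z
  rw [LinearEquiv.mul_apply, LinearEquiv.mul_apply, hgA, hgA, map_smul]

theorem polarFaithful_of_isRegular (hn : 0 < n) (hQ : QuadGrp.IsRegular Q) : PolarFaithful Q := by
  intro r hr
  obtain ⟨x₀, hx₀⟩ := hQ.2 (LinearMap.proj (⟨0, hn⟩ : Fin n))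
  have h1 := hr x₀ (Pi.single ⟨0, hn⟩ 1)
  have h2 : QuadraticMap.polar Q x₀ (Pi.single ⟨0, hn⟩ 1) = 1 := by
    have := LinearMap.congr_fun hx₀ (Pi.single ⟨0, hn⟩ 1)
    rw [QuadraticMap.polarBilin_apply_apply, LinearMap.proj_apply, Pi.single_eq_same] at this
    exact this
  rwa [h2, mul_one] at h1

end Main

end Groth.Agent.H7.QG
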