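import Groth.Agent.Lib.Helper7.QuadGrp.Det

/-! The functorial centre of `SO'(Q)` (helper7). -/

set_option autoImplicit false

namespace Groth.Agent.H7.QG

open TensorProduct MvPolynomial

universe u

section General

variable {A : Type*} [CommRing A] {M' N' : Type*} [AddCommGroup M'] [Module A M']
  [AddCommGroup N'] [Module A N']

theorem comm_consequence₂ (Q' : QuadraticMap A M' N') (t : N' ≃ₗ[A] A) (v v' : M') (u u' : Aˣ)
    (hu : t (Q' v) = u) (hu' : t (Q' v') = u') (G : M' ≃ₗ[A] M')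
    (hG : G * (refl Q' t v u hu * refl Q' t v' u' hu') =
      (refl Q' t v u hu * refl Q' t v' u' hu') * G)
    (w : M') (hw : t (QuadraticMap.polar Q' v' w) = 0) :
    ∃ a b : A, t (QuadraticMap.polar Q' v w) • G v = a • v + b • v' := by
  have h1 := congrArg (fun e : M' ≃ₗ[A] M' => e w) hG
  simp only [LinearEquiv.mul_apply] at h1
  rw [refl_apply Q' t v' u' hu' w, hw, mul_zero, zero_smul, sub_zero, refl_apply Q' t v u hu w,
    map_sub, map_smul, refl_apply Q' t v' u' hu' (G w), refl_apply Q' t v u hu] at h1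
  refine ⟨(u : A) * ((↑u⁻¹ : A) * t (QuadraticMap.polar Q' v
    (G w - ((↑u'⁻¹ : A) * t (QuadraticMap.polar Q' v' (G w))) • v'))),
    (u : A) * ((↑u'⁻¹ : A) * t (QuadraticMap.polar Q' v' (G w))), ?_⟩
  have h2 : ((↑u⁻¹ : A) * t (QuadraticMap.polar Q' v w)) • G v =
      ((↑u⁻¹ : A) * t (QuadraticMap.polar Q' v
        (G w - ((↑u'⁻¹ : A) * t (QuadraticMap.polar Q' v' (G w))) • v'))) • v +
      ((↑u'⁻¹ : A) * t (QuadraticMap.polar Q' v' (G w))) • v' := by
    have h3 := sub_eq_sub_iff_add_eq_add.1 h1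
    -- G w - c • G v = G w - c' • v' - c'' • v
    have h4 : G w - ((↑u⁻¹ : A) * t (QuadraticMap.polar Q' v w)) • G v =
        G w - (((↑u⁻¹ : A) * t (QuadraticMap.polar Q' v
        (G w - ((↑u'⁻¹ : A) * t (QuadraticMap.polar Q' v' (G w))) • v'))) • v +
      ((↑u'⁻¹ : A) * t (QuadraticMap.polar Q' v' (G w))) • v') := by
      rw [h1]; abel
    exact sub_right_injective h4
  have h5 := congrArg (fun z => (u : A) • z) h2
  simp only [smul_add, smul_smul] at h5
  rw [← mul_assoc, Units.mul_inv, one_mul] at h5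
  exact h5

end General

section Main2

variable {R : Type u} [CommRing R] {n : ℕ} {Q : QuadraticForm R (Fin n → R)}

/-- version of `gpoly_identity` assuming commutation with reflections only -/
theorem gpoly_identity' (hPF : PolarFaithful Q) (g : (Fin n → R) ≃ₗ[R] (Fin n → R))
    (hrefl : ∀ (A : Type u) [CommRing A] [Algebra R A] (v : A ⊗[R] (Fin n → R)) (u : Aˣ)
      (hu : AlgebraTensorModule.rid R A A (QuadGrp.baseChange A Q v) = u),
      g.baseChange R A (Fin n → R) (Fin n → R) *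
          refl (QuadGrp.baseChange A Q) (AlgebraTensorModule.rid R A A) v u hu =
        refl (QuadGrp.baseChange A Q) (AlgebraTensorModule.rid R A A) v u hu *
          g.baseChange R A (Fin n → R) (Fin n → R))
    (j l : Fin n) :
    gpoly g j * X (Sum.inl l) - gpoly g l * X (Sum.inl j) = 0 := by
  let A := Localization.Away (qpoly (QuadGrp.bilinLift Q))
  let ξ : Fin n ⊕ Fin n → A := fun s => algebraMap (MvPolynomial (Fin n ⊕ Fin n) R) A (X s)
  have hξ : ∀ p, aeval ξ p = algebraMap (MvPolynomial (Fin n ⊕ Fin n) R) A p := by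
    intro p
    have := MvPolynomial.aeval_unique
      (IsScalarTower.toAlgHom R (MvPolynomial (Fin n ⊕ Fin n) R) A)
    exact (DFunLike.congr_fun this p).symm
  obtain ⟨u, hu⟩ : IsUnit (algebraMap (MvPolynomial (Fin n ⊕ Fin n) R) A
      (qpoly (QuadGrp.bilinLift Q))) :=
    IsLocalization.Away.algebraMap_isUnit (qpoly (QuadGrp.bilinLift Q))
  have hQv : AlgebraTensorModule.rid R A A (QuadGrp.baseChange A Q (vgen R A (ξ ∘ Sum.inl))) =
      u := by
    rw [rid_baseChange_vgen, hu, ← hξ, aeval_qpoly]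
    rfl
  have hc := hrefl A _ u hQv
  have key := comm_consequence _ _ _ u hQv _ hc (vgen R A (ξ ∘ Sum.inr))
  have hΛ : AlgebraTensorModule.rid R A A (QuadraticMap.polar (QuadGrp.baseChange A Q)
      (vgen R A (ξ ∘ Sum.inl)) (vgen R A (ξ ∘ Sum.inr))) =
      algebraMap (MvPolynomial (Fin n ⊕ Fin n) R) A (lpoly (QuadGrp.bilinLift Q)) := by
    rw [rid_polar_vgen, ← hξ, aeval_lpoly]
    rfl
  have hG : ∀ i, coord R A i (g.baseChange R A (Fin n → R) (Fin n → R)
      (vgen R A (ξ ∘ Sum.inl))) = algebraMap (MvPolynomial (Fin n ⊕ Fin n) R) A (gpoly g i) := by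
    intro i
    rw [coord_baseChange_vgen, ← hξ, aeval_gpoly]
    rfl
  have kj := congrArg (coord R A j) key
  have kl := congrArg (coord R A l) key
  rw [map_smul, map_smul, hG, coord_vgen, smul_eq_mul, smul_eq_mul, hΛ] at kj kl
  have hzero : algebraMap (MvPolynomial (Fin n ⊕ Fin n) R) A
      (lpoly (QuadGrp.bilinLift Q) * (gpoly g j * X (Sum.inl l) - gpoly g l * X (Sum.inl j))) =
      0 := by
    rw [map_mul, map_sub, map_mul, map_mul]
    simp only [Function.comp_apply] at kj kl
    linear_combination (ξ (Sum.inl l)) * kj - (ξ (Sum.inl j)) * kl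
  rw [IsLocalization.map_eq_zero_iff (Submonoid.powers (qpoly (QuadGrp.bilinLift Q))) A] at hzero
  obtain ⟨⟨_, k, rfl⟩, hk⟩ := hzero
  have h1 := McCoy.eq_zero_of_pow_mul_eq_zero (qpoly (QuadGrp.bilinLift Q)) (qpoly_regular hPF) k _ hk
  exact McCoy.eq_zero_of_mul_eq_zero _ (lpoly_regular hPF) _ h1

/-- for odd rank, commuting with `SO'` forces commuting with reflections -/
theorem refl_comm_of_sorth'_odd (hodd : Odd n) (g : (Fin n → R) ≃ₗ[R] (Fin n → R))
    (hcomm : ∀ (A : Type u) [CommRing A] [Algebra R A], ∀ h ∈ QuadGrp.sorth' Q A,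
      g.baseChange R A (Fin n → R) (Fin n → R) * h = h * g.baseChange R A (Fin n → R) (Fin n → R))
    (A : Type u) [CommRing A] [Algebra R A] (v : A ⊗[R] (Fin n → R)) (u : Aˣ)
    (hu : AlgebraTensorModule.rid R A A (QuadGrp.baseChange A Q v) = u) :
    g.baseChange R A (Fin n → R) (Fin n → R) *
        refl (QuadGrp.baseChange A Q) (AlgebraTensorModule.rid R A A) v u hu =
      refl (QuadGrp.baseChange A Q) (AlgebraTensorModule.rid R A A) v u hu *
        g.baseChange R A (Fin n → R) (Fin n → R) := by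
  set τ := refl (QuadGrp.baseChange A Q) (AlgebraTensorModule.rid R A A) v u hu with hτ
  have hmem : LinearEquiv.neg A * τ ∈ QuadGrp.sorth' Q A := by
    refine ⟨?_, ?_⟩
    · intro w
      rw [LinearEquiv.mul_apply, LinearEquiv.neg_apply, QuadraticMap.map_neg]
      exact refl_mem_O _ _ v u hu w
    · show LinearEquiv.neg A * τ ∈ (LinearEquiv.det (R := A) (M := A ⊗[R] (Fin n → R))).ker
      rw [MonoidHom.mem_ker, map_mul,
        det_neg_equiv ((Pi.basisFun R (Fin n)).baseChange A), hτ, refl,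
        det_reflection ((Pi.basisFun R (Fin n)).baseChange A), hodd.neg_one_pow]
      simp
  have h1 := hcomm A _ hmem
  ext w
  have h2 := congrArg (fun e : (A ⊗[R] (Fin n → R)) ≃ₗ[A] (A ⊗[R] (Fin n → R)) => e w) h1
  simp only [LinearEquiv.mul_apply, LinearEquiv.neg_apply, map_neg, neg_inj] at h2
  exact h2

end Main2

section Even

variable {R : Type u} [CommRing R] {n : ℕ}

theorem polar_baseChange_tmul (Q : QuadraticForm R (Fin n → R)) (A : Type*) [CommRing A]
    [Algebra R A] (a b : A) (m m' : Fin n → R) :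
    QuadraticMap.polar (QuadGrp.baseChange A Q) (a ⊗ₜ[R] m) (b ⊗ₜ[R] m') =
      (a * b) ⊗ₜ[R] QuadraticMap.polar Q m m' := by
  rw [QuadGrp.baseChange, LinearMap.BilinMap.polar_toQuadraticMap,
    LinearMap.BilinMap.baseChange_tmul, LinearMap.BilinMap.baseChange_tmul, mul_comm b a,
    ← TensorProduct.tmul_add, bilinLift_polar]

theorem rid_polar_vgen_tmul (Q : QuadraticForm R (Fin n → R)) (A : Type*) [CommRing A]
    [Algebra R A] (x : Fin n → A) (b : A) (m : Fin n → R) :
    AlgebraTensorModule.rid R A A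
        (QuadraticMap.polar (QuadGrp.baseChange A Q) (vgen R A x) (b ⊗ₜ[R] m)) =
      ∑ i, QuadraticMap.polar Q (Pi.single i 1) m • (x i * b) := by
  rw [vgen, ← QuadraticMap.polarBilin_apply_apply, map_sum, LinearMap.sum_apply, map_sum]
  refine Finset.sum_congr rfl fun i _ => ?_
  rw [QuadraticMap.polarBilin_apply_apply, polar_baseChange_tmul, AlgebraTensorModule.rid_tmul]

theorem sum_polar_of_proj (Q : QuadraticForm R (Fin n → R)) (p : Fin n → R) (i0 : Fin n)
    (hp : QuadraticMap.polarBilin Q p = LinearMap.proj i0) (A : Type*) [CommRing A]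
    [Algebra R A] (x : Fin n → A) (b : A) :
    ∑ i, QuadraticMap.polar Q (Pi.single i 1) p • (x i * b) = x i0 * b := by
  classical
  have h1 : ∀ i : Fin n, QuadraticMap.polar Q (Pi.single i 1) p = if i = i0 then 1 else 0 := by
    intro i
    rw [QuadraticMap.polar_comm, ← QuadraticMap.polarBilin_apply_apply, hp, LinearMap.proj_apply,
      Pi.single_apply]
    simp [eq_comm]
  simp only [h1]
  rw [Finset.sum_eq_single i0]
  · simp
  · intro i _ hi
    simp [hi]
  · intro h; exact absurd (Finset.mem_univ _) h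

/-- the `3 × 3` determinant polynomial -/
noncomputable def dpoly (g : (Fin n → R) ≃ₗ[R] (Fin n → R)) (j k l : Fin n) :
    MvPolynomial (Fin n ⊕ Fin n) R :=
  gpoly g j * (X (Sum.inl k) * X (Sum.inr l) - X (Sum.inl l) * X (Sum.inr k)) -
    gpoly g k * (X (Sum.inl j) * X (Sum.inr l) - X (Sum.inl l) * X (Sum.inr j)) +
    gpoly g l * (X (Sum.inl j) * X (Sum.inr k) - X (Sum.inl k) * X (Sum.inr j))

variable {Q : QuadraticForm R (Fin n → R)}

theorem qq_regular (hPF : PolarFaithful Q) (r : R)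
    (hr : C r * (qpoly (QuadGrp.bilinLift Q) * rename Sum.swap (qpoly (QuadGrp.bilinLift Q))) = 0) :
    r = 0 := by
  have h1 : ∀ z z', r * Q z * Q z' = 0 := by
    intro z z'
    have := congrArg (eval (Sum.elim z z')) hr
    rw [map_mul, map_mul, eval_C, eval_qpoly, bilinLift_self, eval_rename, map_zero] at this
    have h2 : (Sum.elim z z' ∘ Sum.swap) = Sum.elim z' z := by
      funext s; cases s <;> rfl
    rw [h2, eval_qpoly, bilinLift_self] at this
    linear_combination this
  have h3 : ∀ z, r * Q z = 0 := by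
    intro z
    apply hPF
    intro x y
    rw [QuadraticMap.polar, mul_sub, mul_sub, h1, h1, h1, sub_zero, sub_zero]
  apply hPF
  intro x y
  rw [QuadraticMap.polar, mul_sub, mul_sub, h3, h3, h3, sub_zero, sub_zero]

theorem dpoly_identity (hn : 2 ≤ n) (hQ : QuadGrp.IsRegular Q)
    (g : (Fin n → R) ≃ₗ[R] (Fin n → R))
    (hcomm : ∀ (A : Type u) [CommRing A] [Algebra R A], ∀ h ∈ QuadGrp.sorth' Q A,
      g.baseChange R A (Fin n → R) (Fin n → R) * h = h * g.baseChange R A (Fin n → R) (Fin n → R))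
    (j k l : Fin n) : dpoly g j k l = 0 := by
  have hPF : PolarFaithful Q := polarFaithful_of_isRegular (by omega) hQ
  obtain ⟨p, hp⟩ := hQ.2 (LinearMap.proj (⟨0, by omega⟩ : Fin n))
  obtain ⟨s, hs⟩ := hQ.2 (LinearMap.proj (⟨1, by omega⟩ : Fin n))
  let A := Localization.Away
    (qpoly (QuadGrp.bilinLift Q) * rename Sum.swap (qpoly (QuadGrp.bilinLift Q)))
  let ξ : Fin n ⊕ Fin n → A := fun s => algebraMap (MvPolynomial (Fin n ⊕ Fin n) R) A (X s)
  have hξ : ∀ p, aeval ξ p = algebraMap (MvPolynomial (Fin n ⊕ Fin n) R) A p := by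
    intro p
    have := MvPolynomial.aeval_unique
      (IsScalarTower.toAlgHom R (MvPolynomial (Fin n ⊕ Fin n) R) A)
    exact (DFunLike.congr_fun this p).symm
  have hunit : IsUnit (algebraMap (MvPolynomial (Fin n ⊕ Fin n) R) A
      (qpoly (QuadGrp.bilinLift Q) * rename Sum.swap (qpoly (QuadGrp.bilinLift Q)))) :=
    IsLocalization.Away.algebraMap_isUnit _
  rw [map_mul] at hunit
  obtain ⟨u, hu⟩ := isUnit_of_mul_isUnit_left hunit
  obtain ⟨u', hu'⟩ := isUnit_of_mul_isUnit_right hunit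
  have hQv : AlgebraTensorModule.rid R A A (QuadGrp.baseChange A Q (vgen R A (ξ ∘ Sum.inl))) =
      u := by
    rw [rid_baseChange_vgen, hu, ← hξ, aeval_qpoly]
    rfl
  have hQv' : AlgebraTensorModule.rid R A A (QuadGrp.baseChange A Q (vgen R A (ξ ∘ Sum.inr))) =
      u' := by
    rw [rid_baseChange_vgen, hu', ← hξ, aeval_rename, aeval_qpoly]
    rfl
  have hmem : refl (QuadGrp.baseChange A Q) (AlgebraTensorModule.rid R A A) _ u hQv *
      refl (QuadGrp.baseChange A Q) (AlgebraTensorModule.rid R A A) _ u' hQv' ∈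
      QuadGrp.sorth' Q A := by
    refine ⟨Subgroup.mul_mem _ (refl_mem_O _ _ _ u hQv) (refl_mem_O _ _ _ u' hQv'), ?_⟩
    show _ ∈ (LinearEquiv.det (R := A) (M := A ⊗[R] (Fin n → R))).ker
    rw [MonoidHom.mem_ker, map_mul, refl, refl,
      det_reflection ((Pi.basisFun R (Fin n)).baseChange A),
      det_reflection ((Pi.basisFun R (Fin n)).baseChange A)]
    simp
  have hc := hcomm A _ hmem
  -- the test vector
  have hw : AlgebraTensorModule.rid R A A (QuadraticMap.polar (QuadGrp.baseChange A Q)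
      (vgen R A (ξ ∘ Sum.inr))
      (ξ (Sum.inr ⟨1, by omega⟩) ⊗ₜ[R] p - ξ (Sum.inr ⟨0, by omega⟩) ⊗ₜ[R] s)) = 0 := by
    rw [QuadraticMap.polar_sub_right, map_sub, rid_polar_vgen_tmul, rid_polar_vgen_tmul,
      sum_polar_of_proj Q p _ hp, sum_polar_of_proj Q s _ hs]
    simp only [Function.comp_apply]
    ring
  have hΔ : AlgebraTensorModule.rid R A A (QuadraticMap.polar (QuadGrp.baseChange A Q)
      (vgen R A (ξ ∘ Sum.inl))
      (ξ (Sum.inr ⟨1, by omega⟩) ⊗ₜ[R] p - ξ (Sum.inr ⟨0, by omega⟩) ⊗ₜ[R] s)) =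
      algebraMap (MvPolynomial (Fin n ⊕ Fin n) R) A
        (X (Sum.inl ⟨0, by omega⟩) * X (Sum.inr ⟨1, by omega⟩) -
          X (Sum.inl ⟨1, by omega⟩) * X (Sum.inr ⟨0, by omega⟩)) := by
    rw [QuadraticMap.polar_sub_right, map_sub, rid_polar_vgen_tmul, rid_polar_vgen_tmul,
      sum_polar_of_proj Q p _ hp, sum_polar_of_proj Q s _ hs, map_sub, map_mul, map_mul]
    rfl
  obtain ⟨a, b, hab⟩ := comm_consequence₂ _ _ _ _ u u' hQv hQv' _ hc _ hw
  have hG : ∀ i, coord R A i (g.baseChange R A (Fin n → R) (Fin n → R)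
      (vgen R A (ξ ∘ Sum.inl))) = algebraMap (MvPolynomial (Fin n ⊕ Fin n) R) A (gpoly g i) := by
    intro i
    rw [coord_baseChange_vgen, ← hξ, aeval_gpoly]
    rfl
  have kj := congrArg (coord R A j) hab
  have kk := congrArg (coord R A k) hab
  have kl := congrArg (coord R A l) hab
  rw [map_smul, map_add, map_smul, map_smul, hG, coord_vgen, coord_vgen, smul_eq_mul,
    smul_eq_mul, smul_eq_mul, hΔ] at kj kk kl
  simp only [Function.comp_apply] at kj kk kl
  have hzero : algebraMap (MvPolynomial (Fin n ⊕ Fin n) R) A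
      ((X (Sum.inl ⟨0, by omega⟩) * X (Sum.inr ⟨1, by omega⟩) -
          X (Sum.inl ⟨1, by omega⟩) * X (Sum.inr ⟨0, by omega⟩)) * dpoly g j k l) = 0 := by
    rw [dpoly]
    simp only [map_mul, map_sub, map_add] at kj kk kl ⊢
    linear_combination (ξ (Sum.inl k) * ξ (Sum.inr l) - ξ (Sum.inl l) * ξ (Sum.inr k)) * kj -
      (ξ (Sum.inl j) * ξ (Sum.inr l) - ξ (Sum.inl l) * ξ (Sum.inr j)) * kk +
      (ξ (Sum.inl j) * ξ (Sum.inr k) - ξ (Sum.inl k) * ξ (Sum.inr j)) * kl
  rw [IsLocalization.map_eq_zero_iff (Submonoid.powers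
    (qpoly (QuadGrp.bilinLift Q) * rename Sum.swap (qpoly (QuadGrp.bilinLift Q)))) A] at hzero
  obtain ⟨⟨_, m, rfl⟩, hm⟩ := hzero
  have h1 := McCoy.eq_zero_of_pow_mul_eq_zero _ (qq_regular hPF) m _ hm
  refine McCoy.eq_zero_of_mul_eq_zero _ ?_ _ h1
  intro r hr
  have := congrArg (eval (Sum.elim (Pi.single (⟨0, by omega⟩ : Fin n) (1 : R))
    (Pi.single (⟨1, by omega⟩ : Fin n) (1 : R)))) hr
  simpa using this

theorem scalar_of_key (hn : 0 < n) (g : (Fin n → R) ≃ₗ[R] (Fin n → R))
    (key : ∀ (x : Fin n → R) (j l : Fin n), g x j * x l = g x l * x j) :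
    ∃ c : R, ∀ v, g v = c • v := by
  apply scalar_of_identity hn g
  intro j l
  -- the polynomial identity follows from its values? no: prove directly via coefficients
  classical
  have hcoef : ∀ j l : Fin n, j ≠ l → g (Pi.single l 1) j = 0 := by
    intro j l hjl
    have := key (Pi.single l 1) j l
    rwa [Pi.single_eq_same, mul_one, Pi.single_eq_of_ne hjl, mul_zero] at this
  have hdiag : ∀ j l : Fin n, g (Pi.single j 1) j = g (Pi.single l 1) l := by
    intro j l
    by_cases hjl : j = l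
    · rw [hjl]
    · have := key (Pi.single j 1 + Pi.single l 1) j l
      rw [map_add, Pi.add_apply, Pi.add_apply, Pi.add_apply, Pi.add_apply, Pi.single_eq_same,
        Pi.single_eq_same, Pi.single_eq_of_ne hjl, Pi.single_eq_of_ne (Ne.symm hjl),
        hcoef j l hjl, hcoef l j (Ne.symm hjl)] at this
      simpa using this
  have hg : ∀ j : Fin n, gpoly g j = C (g (Pi.single j 1) j) * X (Sum.inl j) := by
    intro j
    rw [gpoly, Finset.sum_eq_single j]
    · intro i _ hij
      rw [hcoef j i (Ne.symm hij), map_zero, zero_mul]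
    · intro h; exact absurd (Finset.mem_univ _) h
  rw [hg j, hg l, hdiag j l]
  ring

theorem key_of_dpoly (hn : 3 ≤ n) (g : (Fin n → R) ≃ₗ[R] (Fin n → R))
    (hD : ∀ j k l : Fin n, dpoly g j k l = 0) (x : Fin n → R) (k l : Fin n) :
    g x k * x l = g x l * x k := by
  classical
  by_cases hkl : k = l
  · rw [hkl]
  -- a third index
  obtain ⟨j, hjk, hjl⟩ : ∃ j : Fin n, j ≠ k ∧ j ≠ l := by
    by_contra hcon
    push Not at hcon
    have hsub : (Finset.univ : Finset (Fin n)) ⊆ {k, l} := by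
      intro j _
      by_cases hjk : j = k
      · simp [hjk]
      · simp [hcon j hjk]
    have := Finset.card_le_card hsub
    rw [Finset.card_univ, Fintype.card_fin] at this
    have h2 : ({k, l} : Finset (Fin n)).card ≤ 2 := Finset.card_le_two
    omega
  have := congrArg (eval (Sum.elim x (Pi.single j (1 : R)))) (hD j k l)
  rw [dpoly] at this
  simp only [map_add, map_sub, map_mul, eval_gpoly, eval_X, Sum.elim_inl, Sum.elim_inr,
    Pi.single_eq_same, Pi.single_eq_of_ne (Ne.symm hjk), Pi.single_eq_of_ne (Ne.symm hjl),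
    map_zero] at this
  linear_combination this

end Even

end Groth.Agent.H7.QG
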