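import Groth.Agent.Lib.Helper7.QuadGrp.Dickson

/-! The functorial centre of `SO(Q)` in even rank (helper7). -/

set_option autoImplicit false

namespace Groth.Agent.H7.QG

open TensorProduct MvPolynomial

universe u

section Even2

variable {R : Type u} [CommRing R] {n : ℕ} {Q : QuadraticForm R (Fin n → R)}

theorem dpoly_identity' (hn : 2 ≤ n) (hQ : QuadGrp.IsRegular Q)
    (g : (Fin n → R) ≃ₗ[R] (Fin n → R))
    (hrefl2 : ∀ (A : Type u) [CommRing A] [Algebra R A] (v v' : A ⊗[R] (Fin n → R)) (u u' : Aˣ)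
      (hu : AlgebraTensorModule.rid R A A (QuadGrp.baseChange A Q v) = u)
      (hu' : AlgebraTensorModule.rid R A A (QuadGrp.baseChange A Q v') = u'),
      g.baseChange R A (Fin n → R) (Fin n → R) *
          (refl (QuadGrp.baseChange A Q) (AlgebraTensorModule.rid R A A) v u hu *
            refl (QuadGrp.baseChange A Q) (AlgebraTensorModule.rid R A A) v' u' hu') =
        (refl (QuadGrp.baseChange A Q) (AlgebraTensorModule.rid R A A) v u hu *
            refl (QuadGrp.baseChange A Q) (AlgebraTensorModule.rid R A A) v' u' hu') *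
          g.baseChange R A (Fin n → R) (Fin n → R))
    (j k l : Fin n) : dpoly g j k l = 0 := by
  have hPF : PolarFaithful Q := polarFaithful_of_isRegular (by omega) hQ
  obtain ⟨p, hp⟩ := hQ.2 (LinearMap.proj (⟨0, by omega⟩ : Fin n))
  obtain ⟨s, hs⟩ := hQ.2 (LinearMap.proj (⟨1, by omega⟩ : Fin n))
  let A := Localization.Away
    (qpoly (QuadGrp.bilinLift Q) * rename Sum.swap (qpoly (QuadGrp.bilinLift Q)))
  let ξ : Fin n ⊕ Fin n → A := fun s => algebraMap (MvPolynomial (Fin n ⊕ Fin n) R) A (X s)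
  have hξ : ∀ p, aeval ξ p = algebraMap (MvPolynomial (Fin n ⊕ Fin n) R) A p := by
    intro p
    have := MvPolynomial.aeval_unique
      (IsScalarTower.toAlgHom R (MvPolynomial (Fin n ⊕ Fin n) R) A)
    exact (DFunLike.congr_fun this p).symm
  have hunit : IsUnit (algebraMap (MvPolynomial (Fin n ⊕ Fin n) R) A
      (qpoly (QuadGrp.bilinLift Q) * rename Sum.swap (qpoly (QuadGrp.bilinLift Q)))) :=
    IsLocalization.Away.algebraMap_isUnit _
  rw [map_mul] at hunit
  obtain ⟨u, hu⟩ := isUnit_of_mul_isUnit_left hunit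
  obtain ⟨u', hu'⟩ := isUnit_of_mul_isUnit_right hunit
  have hQv : AlgebraTensorModule.rid R A A (QuadGrp.baseChange A Q (vgen R A (ξ ∘ Sum.inl))) =
      u := by
    rw [rid_baseChange_vgen, hu, ← hξ, aeval_qpoly]
    rfl
  have hQv' : AlgebraTensorModule.rid R A A (QuadGrp.baseChange A Q (vgen R A (ξ ∘ Sum.inr))) =
      u' := by
    rw [rid_baseChange_vgen, hu', ← hξ, aeval_rename, aeval_qpoly]
    rfl
  have hc := hrefl2 A _ _ u u' hQv hQv'
  -- the test vector
  have hw : AlgebraTensorModule.rid R A A (QuadraticMap.polar (QuadGrp.baseChange A Q)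
      (vgen R A (ξ ∘ Sum.inr))
      (ξ (Sum.inr ⟨1, by omega⟩) ⊗ₜ[R] p - ξ (Sum.inr ⟨0, by omega⟩) ⊗ₜ[R] s)) = 0 := by
    rw [QuadraticMap.polar_sub_right, map_sub, rid_polar_vgen_tmul, rid_polar_vgen_tmul,
      sum_polar_of_proj Q p _ hp, sum_polar_of_proj Q s _ hs]
    simp only [Function.comp_apply]
    ring
  have hΔ : AlgebraTensorModule.rid R A A (QuadraticMap.polar (QuadGrp.baseChange A Q)
      (vgen R A (ξ ∘ Sum.inl))
      (ξ (Sum.inr ⟨1, by omega⟩) ⊗ₜ[R] p - ξ (Sum.inr ⟨0, by omega⟩) ⊗ₜ[R] s)) =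
      algebraMap (MvPolynomial (Fin n ⊕ Fin n) R) A
        (X (Sum.inl ⟨0, by omega⟩) * X (Sum.inr ⟨1, by omega⟩) -
          X (Sum.inl ⟨1, by omega⟩) * X (Sum.inr ⟨0, by omega⟩)) := by
    rw [QuadraticMap.polar_sub_right, map_sub, rid_polar_vgen_tmul, rid_polar_vgen_tmul,
      sum_polar_of_proj Q p _ hp, sum_polar_of_proj Q s _ hs, map_sub, map_mul, map_mul]
    rfl
  obtain ⟨a, b, hab⟩ := comm_consequence₂ _ _ _ _ u u' hQv hQv' _ hc _ hw
  have hG : ∀ i, coord R A i (g.baseChange R A (Fin n → R) (Fin n → R)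
      (vgen R A (ξ ∘ Sum.inl))) = algebraMap (MvPolynomial (Fin n ⊕ Fin n) R) A (gpoly g i) := by
    intro i
    rw [coord_baseChange_vgen, ← hξ, aeval_gpoly]
    rfl
  have kj := congrArg (coord R A j) hab
  have kk := congrArg (coord R A k) hab
  have kl := congrArg (coord R A l) hab
  rw [map_smul, map_add, map_smul, map_smul, hG, coord_vgen, coord_vgen, smul_eq_mul,
    smul_eq_mul, smul_eq_mul, hΔ] at kj kk kl
  simp only [Function.comp_apply] at kj kk kl
  have hzero : algebraMap (MvPolynomial (Fin n ⊕ Fin n) R) A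
      ((X (Sum.inl ⟨0, by omega⟩) * X (Sum.inr ⟨1, by omega⟩) -
          X (Sum.inl ⟨1, by omega⟩) * X (Sum.inr ⟨0, by omega⟩)) * dpoly g j k l) = 0 := by
    rw [dpoly]
    simp only [map_mul, map_sub, map_add] at kj kk kl ⊢
    linear_combination (ξ (Sum.inl k) * ξ (Sum.inr l) - ξ (Sum.inl l) * ξ (Sum.inr k)) * kj -
      (ξ (Sum.inl j) * ξ (Sum.inr l) - ξ (Sum.inl l) * ξ (Sum.inr j)) * kk +
      (ξ (Sum.inl j) * ξ (Sum.inr k) - ξ (Sum.inl k) * ξ (Sum.inr j)) * kl
  rw [IsLocalization.map_eq_zero_iff (Submonoid.powers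
    (qpoly (QuadGrp.bilinLift Q) * rename Sum.swap (qpoly (QuadGrp.bilinLift Q)))) A] at hzero
  obtain ⟨⟨_, m, rfl⟩, hm⟩ := hzero
  have h1 := McCoy.eq_zero_of_pow_mul_eq_zero _ (qq_regular hPF) m _ hm
  refine McCoy.eq_zero_of_mul_eq_zero _ ?_ _ h1
  intro r hr
  have := congrArg (eval (Sum.elim (Pi.single (⟨0, by omega⟩ : Fin n) (1 : R))
    (Pi.single (⟨1, by omega⟩ : Fin n) (1 : R)))) hr
  simpa using this


theorem polar_baseChangeForm (Q : QuadraticForm R (Fin n → R)) (A : Type*) [CommRing A]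
    [Algebra R A] (x y : A ⊗[R] (Fin n → R)) :
    QuadraticMap.polar (QuadGrp.baseChangeForm A Q) x y =
      AlgebraTensorModule.rid R A A (QuadraticMap.polar (QuadGrp.baseChange A Q) x y) := by
  simp only [QuadraticMap.polar, QuadGrp.baseChangeForm, LinearMap.compQuadraticMap_apply,
    LinearEquiv.coe_coe, map_sub]

theorem two_refl_mem_sorth (Q : QuadraticForm R (Fin n → R)) (A : Type*) [CommRing A]
    [Algebra R A] (v v' : A ⊗[R] (Fin n → R)) (u u' : Aˣ)
    (hu : AlgebraTensorModule.rid R A A (QuadGrp.baseChange A Q v) = u)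
    (hu' : AlgebraTensorModule.rid R A A (QuadGrp.baseChange A Q v') = u') :
    refl (QuadGrp.baseChange A Q) (AlgebraTensorModule.rid R A A) v u hu *
      refl (QuadGrp.baseChange A Q) (AlgebraTensorModule.rid R A A) v' u' hu' ∈
        QuadGrp.sorth Q A := by
  have hO : refl (QuadGrp.baseChange A Q) (AlgebraTensorModule.rid R A A) v u hu *
      refl (QuadGrp.baseChange A Q) (AlgebraTensorModule.rid R A A) v' u' hu' ∈
        QuadGrp.O (QuadGrp.baseChangeForm A Q) := by
    intro w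
    have := (Subgroup.mul_mem _ (refl_mem_O _ _ _ u hu) (refl_mem_O _ _ _ u' hu')) w
    simp only [QuadGrp.baseChangeForm, LinearMap.compQuadraticMap_apply]
    rw [this]
  unfold QuadGrp.sorth QuadGrp.SO
  split_ifs with hpar
  · refine ⟨hO, isDicksonTrivial_two_refl _ v v' u u' hu hu' _ hO ?_⟩
    intro m
    rw [LinearEquiv.mul_apply, refl_apply, refl_apply, polar_baseChangeForm, polar_baseChangeForm]
  · refine ⟨hO, ?_⟩
    show _ ∈ (LinearEquiv.det (R := A) (M := A ⊗[R] (Fin n → R))).ker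
    rw [MonoidHom.mem_ker, map_mul, refl, refl,
      det_reflection ((Pi.basisFun R (Fin n)).baseChange A),
      det_reflection ((Pi.basisFun R (Fin n)).baseChange A)]
    simp

theorem mem_O_of_mem_SO (Q : QuadraticForm R (Fin n → R)) (g : (Fin n → R) ≃ₗ[R] (Fin n → R))
    (hg : g ∈ QuadGrp.SO Q) : g ∈ QuadGrp.O Q := by
  unfold QuadGrp.SO at hg
  split_ifs at hg
  · obtain ⟨h, _⟩ := hg
    exact h
  · exact hg.1

end Even2

end Groth.Agent.H7.QG
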