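import Groth.Agent.Lib.Helper7.QuadGrp.HalfDisc
import Mathlib.LinearAlgebra.Matrix.SchurComplement
import Mathlib.LinearAlgebra.Determinant
import Mathlib.LinearAlgebra.TensorProduct.Basis

/-! Determinants of reflections (helper7). -/

set_option autoImplicit false

namespace Groth.Agent.H7.QG

open TensorProduct

theorem det_preReflection {A M' ι : Type*} [CommRing A] [AddCommGroup M'] [Module A M']
    [Fintype ι] [DecidableEq ι] (b : Module.Basis ι A M') (x : M') (f : Module.Dual A M') :
    LinearMap.det (Module.preReflection x f) = 1 - f x := by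
  rw [← LinearMap.det_toMatrix b]
  have : LinearMap.toMatrix b b (Module.preReflection x f) =
      1 - Matrix.replicateCol Unit (b.repr x) * Matrix.replicateRow Unit (fun j => f (b j)) := by
    ext i j
    rw [LinearMap.toMatrix_apply, Module.preReflection_apply, map_sub, map_smul,
      Finsupp.sub_apply, Finsupp.smul_apply, Matrix.sub_apply, Matrix.one_apply,
      Matrix.mul_apply, Module.Basis.repr_self, Finsupp.single_apply]
    simp [mul_comm, eq_comm]
  rw [this, Matrix.det_one_sub_mul_comm, Matrix.det_unique, Matrix.sub_apply, Matrix.one_apply_eq,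
    Matrix.mul_apply]
  congr 1
  conv_rhs => rw [← b.sum_repr x, map_sum]
  simp [mul_comm]

theorem det_reflection {A M' ι : Type*} [CommRing A] [AddCommGroup M'] [Module A M']
    [Fintype ι] [DecidableEq ι] (b : Module.Basis ι A M') {x : M'} {f : Module.Dual A M'}
    (h : f x = 2) : LinearEquiv.det (Module.reflection h) = -1 := by
  apply Units.ext
  rw [LinearEquiv.coe_det]
  have : ((Module.reflection h : M' ≃ₗ[A] M') : M' →ₗ[A] M') = Module.preReflection x f := rfl
  rw [this, det_preReflection b, h]
  simp only [Units.val_neg, Units.val_one]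
  ring

theorem det_neg_equiv {A M' : Type*} [CommRing A] [AddCommGroup M'] [Module A M'] {n : ℕ}
    (b : Module.Basis (Fin n) A M') : LinearEquiv.det (LinearEquiv.neg A : M' ≃ₗ[A] M') = (-1) ^ n := by
  apply Units.ext
  rw [LinearEquiv.coe_det]
  have : ((LinearEquiv.neg A : M' ≃ₗ[A] M') : M' →ₗ[A] M') = -LinearMap.id := by
    ext z; simp
  rw [this, ← LinearMap.det_toMatrix b, map_neg, LinearMap.toMatrix_id, Matrix.det_neg,
    Matrix.det_one, Fintype.card_fin, mul_one]
  simp

end Groth.Agent.H7.QG
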