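import Groth.Agent.Lib.Helper7.QuadGrp.Center2

/-! Products of two reflections satisfy the Dickson condition (helper7). -/

set_option autoImplicit false

namespace Groth.Agent.H7.QG

open CliffordAlgebra

variable {A : Type*} [CommRing A] {M' : Type*} [AddCommGroup M'] [Module A M']
  (Q' : QuadraticForm A M')

theorem ι_refl_mul_ι (v : M') (u : Aˣ) (hv : Q' v = u) (m : M') :
    ι Q' (m - ((↑u⁻¹ : A) * QuadraticMap.polar Q' v m) • v) * ι Q' v = -(ι Q' v * ι Q' m) := by
  rw [map_sub, map_smul, sub_mul, smul_mul_assoc, ι_sq_scalar, hv, Algebra.smul_def,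
    ← map_mul (algebraMap A (CliffordAlgebra Q')),
    mul_right_comm, Units.inv_mul, one_mul, ← ι_mul_ι_add_swap]
  abel

theorem conj_two_refl (v v' : M') (u u' : Aˣ) (hv : Q' v = u) (hv' : Q' v' = u')
    (h : M' ≃ₗ[A] M') (hh : h ∈ QuadGrp.O Q')
    (hform : ∀ m, h m = (m - ((↑u'⁻¹ : A) * QuadraticMap.polar Q' v' m) • v') -
      ((↑u⁻¹ : A) * QuadraticMap.polar Q' v (m - ((↑u'⁻¹ : A) * QuadraticMap.polar Q' v' m) • v')) • v)
    (x : CliffordAlgebra Q') :
    CliffordAlgebra.map (QuadGrp.isometryOfMem Q' h hh) x * (ι Q' v * ι Q' v') =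
      (ι Q' v * ι Q' v') * x := by
  induction x using CliffordAlgebra.induction with
  | algebraMap r => rw [AlgHom.commutes, Algebra.commutes]
  | ι m =>
    rw [CliffordAlgebra.map_apply_ι, QuadGrp.isometryOfMem_apply, hform, ← mul_assoc,
      ι_refl_mul_ι Q' v u hv, neg_mul, mul_assoc, ι_refl_mul_ι Q' v' u' hv', mul_neg, neg_neg,
      mul_assoc]
  | mul a b ha hb => rw [map_mul, mul_assoc, hb, ← mul_assoc, ha, mul_assoc]
  | add a b ha hb => rw [map_add, add_mul, mul_add, ha, hb]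

theorem isDicksonTrivial_two_refl (v v' : M') (u u' : Aˣ) (hv : Q' v = u) (hv' : Q' v' = u')
    (h : M' ≃ₗ[A] M') (hh : h ∈ QuadGrp.O Q')
    (hform : ∀ m, h m = (m - ((↑u'⁻¹ : A) * QuadraticMap.polar Q' v' m) • v') -
      ((↑u⁻¹ : A) * QuadraticMap.polar Q' v (m - ((↑u'⁻¹ : A) * QuadraticMap.polar Q' v' m) • v')) • v) :
    QuadGrp.IsDicksonTrivial Q' h hh := by
  intro z hz
  have hc : ι Q' v * ι Q' v' ∈ CliffordAlgebra.even Q' := ι_mul_ι_mem_evenOdd_zero Q' v v'
  have h1 := conj_two_refl Q' v v' u u' hv hv' h hh hform (z : CliffordAlgebra Q')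
  have h2 : (ι Q' v * ι Q' v') * (z : CliffordAlgebra Q') =
      (z : CliffordAlgebra Q') * (ι Q' v * ι Q' v') := by
    have := (Subalgebra.mem_center_iff.1 hz) ⟨_, hc⟩
    exact congrArg Subtype.val this
  rw [h2] at h1
  -- cancel the unit
  have h3 : (ι Q' v * ι Q' v') * (ι Q' v' * ι Q' v) =
      algebraMap A (CliffordAlgebra Q') ((u : A) * u') := by
    rw [mul_assoc, ← mul_assoc (ι Q' v'), ι_sq_scalar, hv', Algebra.commutes, ← mul_assoc,
      ι_sq_scalar, hv, ← map_mul (algebraMap A (CliffordAlgebra Q'))]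
  have h4 := congrArg (fun y => y * (ι Q' v' * ι Q' v)) h1
  simp only [mul_assoc] at h4
  rw [← mul_assoc (ι Q' v) (ι Q' v'), h3] at h4
  have h5 : IsUnit (algebraMap A (CliffordAlgebra Q') ((u : A) * u')) :=
    ((u * u').isUnit).map (algebraMap A (CliffordAlgebra Q'))
  exact h5.mul_left_injective h4

end Groth.Agent.H7.QG
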