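import Groth.Agent.Lib.Helper7.QuadGrp.Reflect
import Mathlib.LinearAlgebra.TensorProduct.Tower
import Mathlib.LinearAlgebra.StdBasis

/-! Generic vectors in `A ⊗ R^n` and the polynomials computing the base-changed form (helper7). -/

set_option autoImplicit false

namespace Groth.Agent.H7.QG

open TensorProduct MvPolynomial

universe u
variable {R : Type u} [CommRing R] {n : ℕ}

section Tensor

variable (R) (A : Type*) [CommRing A] [Algebra R A]

/-- the vector `∑ xᵢ ⊗ eᵢ` -/
noncomputable def vgen (x : Fin n → A) : A ⊗[R] (Fin n → R) :=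
  ∑ i, x i ⊗ₜ[R] (Pi.single i (1 : R))

/-- the `j`-th coordinate functional on `A ⊗ R^n` -/
noncomputable def coord (j : Fin n) : A ⊗[R] (Fin n → R) →ₗ[A] A :=
  (AlgebraTensorModule.rid R A A).toLinearMap ∘ₗ
    (LinearMap.proj j : (Fin n → R) →ₗ[R] R).baseChange A

theorem coord_tmul (j : Fin n) (a : A) (m : Fin n → R) :
    coord R A j (a ⊗ₜ[R] m) = m j • a := by
  rfl

theorem coord_vgen (j : Fin n) (x : Fin n → A) : coord R A j (vgen R A x) = x j := by
  classical
  rw [vgen, map_sum]
  simp only [coord_tmul]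
  rw [Finset.sum_eq_single j]
  · simp
  · intro i _ hij
    simp [Pi.single_apply, hij.symm]
  · intro h; exact absurd (Finset.mem_univ j) h

theorem baseChange_vgen (g : (Fin n → R) ≃ₗ[R] (Fin n → R)) (x : Fin n → A) :
    g.baseChange R A (Fin n → R) (Fin n → R) (vgen R A x) =
      ∑ i, x i ⊗ₜ[R] g (Pi.single i (1 : R)) := by
  rw [vgen, map_sum]
  simp

theorem coord_baseChange_vgen (g : (Fin n → R) ≃ₗ[R] (Fin n → R)) (x : Fin n → A) (j : Fin n) :
    coord R A j (g.baseChange R A (Fin n → R) (Fin n → R) (vgen R A x)) =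
      ∑ i, g (Pi.single i (1 : R)) j • x i := by
  rw [baseChange_vgen, map_sum]
  simp only [coord_tmul]

variable {R}

theorem bilin_baseChange_vgen (β : LinearMap.BilinMap R (Fin n → R) R) (x y : Fin n → A) :
    AlgebraTensorModule.rid R A A (β.baseChange A (vgen R A x) (vgen R A y)) =
      ∑ i, ∑ j, β (Pi.single i 1) (Pi.single j 1) • (x i * y j) := by
  simp only [vgen, map_sum, LinearMap.sum_apply, LinearMap.BilinMap.baseChange_tmul,
    AlgebraTensorModule.rid_tmul]
  exact Finset.sum_comm

theorem rid_baseChange_vgen (Q : QuadraticForm R (Fin n → R)) (x : Fin n → A) :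
    AlgebraTensorModule.rid R A A (QuadGrp.baseChange A Q (vgen R A x)) =
      ∑ i, ∑ j, QuadGrp.bilinLift Q (Pi.single i 1) (Pi.single j 1) • (x i * x j) := by
  rw [QuadGrp.baseChange, LinearMap.BilinMap.toQuadraticMap_apply, bilin_baseChange_vgen]

theorem rid_polar_vgen (Q : QuadraticForm R (Fin n → R)) (x y : Fin n → A) :
    AlgebraTensorModule.rid R A A
        (QuadraticMap.polar (QuadGrp.baseChange A Q) (vgen R A x) (vgen R A y)) =
      ∑ a, ∑ i, (QuadGrp.bilinLift Q (Pi.single a 1) (Pi.single i 1) +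
        QuadGrp.bilinLift Q (Pi.single i 1) (Pi.single a 1)) • (x a * y i) := by
  rw [QuadGrp.baseChange, LinearMap.BilinMap.polar_toQuadraticMap, map_add,
    bilin_baseChange_vgen, bilin_baseChange_vgen]
  rw [Finset.sum_comm (f := fun i j => QuadGrp.bilinLift Q (Pi.single i 1) (Pi.single j 1) •
    (y i * x j)), ← Finset.sum_add_distrib]
  refine Finset.sum_congr rfl fun a _ => ?_
  rw [← Finset.sum_add_distrib]
  refine Finset.sum_congr rfl fun i _ => ?_
  rw [add_smul, mul_comm (y i) (x a)]

end Tensor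

end Groth.Agent.H7.QG
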