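import Groth.Prelude.Def_QuadGrp
import Mathlib.RingTheory.Ideal.Quotient.Operations
import Mathlib.LinearAlgebra.Matrix.Determinant.Basic

/-! The universal discriminant is twice the universal half-discriminant in odd rank (helper7). -/

set_option autoImplicit false

namespace Groth.Agent.H7.QG

open MvPolynomial

theorem det_eq_zero_of_skew {S : Type*} [CommRing S] (h2 : ∀ x : S, 2 * x = 0 → x = 0) {n : ℕ}
    (hn : Odd n) (K : Matrix (Fin n) (Fin n) S) (hK : K.transpose = -K) : K.det = 0 := by
  apply h2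
  have h1 : K.det = -K.det := by
    conv_lhs => rw [← Matrix.det_transpose, hK, Matrix.det_neg, Fintype.card_fin, hn.neg_one_pow]
    ring
  linear_combination h1

/-- the skew-symmetric companion of the universal polar matrix -/
noncomputable def skewMat (n : ℕ) : Matrix (Fin n) (Fin n) (MvPolynomial (Sym2 (Fin n)) ℤ) :=
  Matrix.of fun i j => if i < j then X (Sym2.mk i j) else if j < i then -X (Sym2.mk i j) else 0

theorem skewMat_transpose (n : ℕ) : (skewMat n).transpose = -skewMat n := by
  ext i j
  simp only [skewMat, Matrix.transpose_apply, Matrix.of_apply, Matrix.neg_apply]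
  rcases lt_trichotomy i j with h | h | h
  · rw [if_neg (not_lt.2 h.le), if_pos h, if_pos h, Sym2.eq_swap]
  · subst h; simp
  · rw [if_pos h, if_neg (not_lt.2 h.le), if_pos h, Sym2.eq_swap]; simp

theorem exists_discUniv_eq_two_mul (n : ℕ) (hn : Odd n) :
    ∃ P : MvPolynomial (Sym2 (Fin n)) ℤ, QuadGrp.discUniv n = 2 * P := by
  have hdet : (skewMat n).det = 0 := by
    apply det_eq_zero_of_skew _ hn _ (skewMat_transpose n)
    intro x hx
    rcases mul_eq_zero.1 hx with h | h
    · exfalso
      have h3 : (C (2 : ℤ) : MvPolynomial (Sym2 (Fin n)) ℤ) = 0 := by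
        rw [← h]; simp
      have := congrArg (coeff 0) h3
      rw [coeff_C, if_pos rfl, coeff_zero] at this
      norm_num at this
    · exact h
  set π := Ideal.Quotient.mk (Ideal.span {(2 : MvPolynomial (Sym2 (Fin n)) ℤ)}) with hπ
  have hmat : π.mapMatrix (QuadGrp.univPolarMat n) = π.mapMatrix (skewMat n) := by
    ext i j
    simp only [RingHom.mapMatrix_apply, Matrix.map_apply, QuadGrp.univPolarMat, skewMat,
      Matrix.of_apply]
    rcases lt_trichotomy i j with h | h | h
    · rw [if_neg h.ne, if_pos h]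
    · subst h
      rw [if_pos rfl, if_neg (lt_irrefl _), if_neg (lt_irrefl _), map_zero, hπ,
        Ideal.Quotient.eq_zero_iff_mem]
      exact Ideal.mul_mem_right _ _ (Ideal.mem_span_singleton_self _)
    · rw [if_neg h.ne', if_neg (not_lt.2 h.le), if_pos h, hπ, Ideal.Quotient.eq,
        Ideal.mem_span_singleton]
      exact ⟨X (Sym2.mk i j), by ring⟩
  have h0 : π (QuadGrp.discUniv n) = 0 := by
    rw [QuadGrp.discUniv, RingHom.map_det, hmat, ← RingHom.map_det, hdet, map_zero]
  rw [hπ, Ideal.Quotient.eq_zero_iff_mem, Ideal.mem_span_singleton] at h0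
  obtain ⟨P, hP⟩ := h0
  exact ⟨P, hP⟩

theorem discUniv_eq_two_mul_halfDiscUniv (n : ℕ) (hn : Odd n) :
    QuadGrp.discUniv n = 2 * QuadGrp.halfDiscUniv n := by
  obtain ⟨P, hP⟩ := exists_discUniv_eq_two_mul n hn
  have : QuadGrp.halfDiscUniv n = P := by
    ext s
    rw [QuadGrp.coeff_halfDiscUniv, hP]
    have : (2 : MvPolynomial (Sym2 (Fin n)) ℤ) = C 2 := by simp
    rw [this, coeff_C_mul, Int.mul_ediv_cancel_left _ (by norm_num)]
  rw [this, hP]

end Groth.Agent.H7.QG
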