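import Groth.Agent.Lib.Helper7.QuadGrp.Center

/-! A unit half-discriminant forces the polar ideal to be faithful in rank ≥ 2 (helper7). -/

set_option autoImplicit false

namespace Groth.Agent.H7.QG

open MvPolynomial

universe u

section Univ

variable (n : ℕ)

/-- kill the off-diagonal variables -/
noncomputable def killOff :
    MvPolynomial (Sym2 (Fin n)) ℤ →ₐ[ℤ] MvPolynomial (Sym2 (Fin n)) ℤ :=
  aeval (fun z => if z.IsDiag then X z else 0)

/-- exponent vectors supported on the diagonal variables -/
def DiagSupp (d : Sym2 (Fin n) →₀ ℕ) : Prop := ∀ z ∈ d.support, z.IsDiag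

theorem coeff_killOff (d : Sym2 (Fin n) →₀ ℕ) (hd : DiagSupp n d)
    (p : MvPolynomial (Sym2 (Fin n)) ℤ) : coeff d (killOff n p) = coeff d p := by
  classical
  induction p using MvPolynomial.induction_on' with
  | monomial e c =>
    rw [killOff, aeval_monomial]
    by_cases he : DiagSupp n e
    · have : (e.prod fun i k => (if i.IsDiag then X i else 0 : MvPolynomial (Sym2 (Fin n)) ℤ) ^ k) =
          monomial e 1 := by
        rw [Finsupp.prod, ← MvPolynomial.prod_X_pow_eq_monomial]
        refine Finset.prod_congr rfl fun z hz => ?_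
        rw [if_pos (he z hz)]
      rw [this, algebraMap_eq, C_mul_monomial, mul_one]
    · have hne : e ≠ d := fun h => he (h ▸ hd)
      rw [coeff_monomial, if_neg hne]
      unfold DiagSupp at he
      push Not at he
      obtain ⟨z, hz, hzd⟩ := he
      have : (e.prod fun i k => (if i.IsDiag then X i else 0 : MvPolynomial (Sym2 (Fin n)) ℤ) ^ k) =
          0 := by
        rw [Finsupp.prod]
        apply Finset.prod_eq_zero hz
        rw [if_neg hzd, zero_pow (Finsupp.mem_support_iff.1 hz)]
      rw [this, mul_zero, coeff_zero]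
  | add p q hp hq => rw [map_add, coeff_add, coeff_add, hp, hq]

/-- the exponent vector of `∏ X_{ii}` -/
noncomputable def diagExp : Sym2 (Fin n) →₀ ℕ := ∑ i : Fin n, Finsupp.single (Sym2.mk i i) 1

theorem killOff_discUniv :
    killOff n (QuadGrp.discUniv n) = monomial (diagExp n) ((2 : ℤ) ^ n) := by
  classical
  rw [QuadGrp.discUniv, AlgHom.map_det]
  have : (killOff n).mapMatrix (QuadGrp.univPolarMat n) =
      Matrix.diagonal fun i => (2 : MvPolynomial (Sym2 (Fin n)) ℤ) * X (Sym2.mk i i) := by
    ext i j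
    rw [AlgHom.mapMatrix_apply, Matrix.map_apply, QuadGrp.univPolarMat, Matrix.of_apply,
      Matrix.diagonal_apply]
    by_cases hij : i = j
    · subst hij
      rw [if_pos rfl, if_pos rfl, map_mul, killOff, aeval_X, if_pos (Sym2.mk_isDiag_iff.2 rfl)]
      simp
    · rw [if_neg hij, if_neg hij, killOff, aeval_X, if_neg (fun h => hij (Sym2.mk_isDiag_iff.1 h))]
  rw [this, Matrix.det_diagonal, Finset.prod_mul_distrib, Finset.prod_const, Finset.card_univ,
    Fintype.card_fin, diagExp, monomial_sum_index]
  congr 1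
  all_goals first | (refine Finset.prod_congr rfl fun i _ => rfl) | simp

theorem coeff_halfDiscUniv_of_diagSupp (d : Sym2 (Fin n) →₀ ℕ) (hd : DiagSupp n d) :
    coeff d (QuadGrp.halfDiscUniv n) = if diagExp n = d then (2 : ℤ) ^ n / 2 else 0 := by
  classical
  rw [QuadGrp.coeff_halfDiscUniv, ← coeff_killOff n d hd, killOff_discUniv, coeff_monomial]
  split_ifs <;> simp

end Univ

section Faithful

variable {R : Type u} [CommRing R] {n : ℕ}

theorem mul_prod_pow_eq_zero {ι : Type*} (g : ι → R) (d : ι →₀ ℕ) (r' : R) (z₀ : ι)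
    (hz₀ : z₀ ∈ d.support) (h : r' * g z₀ = 0) : r' * ∏ z ∈ d.support, g z ^ d z = 0 := by
  classical
  rw [← Finset.mul_prod_erase d.support _ hz₀]
  obtain ⟨k, hk⟩ := Nat.exists_eq_succ_of_ne_zero (Finsupp.mem_support_iff.1 hz₀)
  rw [hk, pow_succ', ← mul_assoc, ← mul_assoc, h, zero_mul, zero_mul]

theorem polarFaithful_of_isSemiregular (hn : 2 ≤ n) (Q : QuadraticForm R (Fin n → R))
    (hQ : QuadGrp.IsSemiregular (Pi.basisFun R (Fin n)) (LinearEquiv.refl R R) Q) :
    PolarFaithful Q := by
  classical
  intro r hr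
  have hzero : r * QuadGrp.halfDisc (Pi.basisFun R (Fin n)) (LinearEquiv.refl R R) Q = 0 := by
    rw [QuadGrp.halfDisc, eval₂_eq, Finset.mul_sum]
    apply Finset.sum_eq_zero
    intro d _
    by_cases hdiag : DiagSupp n d
    · rw [coeff_halfDiscUniv_of_diagSupp n d hdiag]
      by_cases hd0 : diagExp n = d
      · rw [if_pos hd0, ← mul_assoc]
        have hz₀ : Sym2.mk (⟨0, by omega⟩ : Fin n) ⟨0, by omega⟩ ∈ d.support := by
          rw [← hd0, Finsupp.mem_support_iff, diagExp, Finsupp.finset_sum_apply,
            Finset.sum_eq_single (⟨0, by omega⟩ : Fin n)]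
          · simp
          · intro i _ hi
            rw [Finsupp.single_apply, if_neg]
            intro h
            rw [Sym2.eq, Sym2.rel_iff] at h
            rcases h with ⟨h1, _⟩ | ⟨h1, _⟩ <;> exact hi h1
          · intro h; exact absurd (Finset.mem_univ _) h
        apply mul_prod_pow_eq_zero _ d _ _ hz₀
        rw [QuadGrp.coeffs_mk, if_pos rfl, Pi.basisFun_apply, LinearEquiv.refl_apply]
        have h2 : ((2 : ℤ) ^ n / 2 : ℤ) = 2 ^ (n - 2) * 2 := by
          obtain ⟨m, rfl⟩ : ∃ m, n = m + 2 := ⟨n - 2, by omega⟩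
          rw [pow_succ, Int.mul_ediv_cancel _ (by norm_num), Nat.add_sub_cancel, pow_succ]
        have h3 := hr (Pi.single (⟨0, by omega⟩ : Fin n) 1) (Pi.single (⟨0, by omega⟩ : Fin n) 1)
        rw [QuadraticMap.polar_self, nsmul_eq_mul] at h3
        rw [h2, map_mul, map_pow, map_ofNat]
        rw [Nat.cast_ofNat] at h3
        linear_combination (2 : R) ^ (n - 2) * h3
      · rw [if_neg hd0]; simp
    · unfold DiagSupp at hdiag
      push Not at hdiag
      obtain ⟨z, hz, hzd⟩ := hdiag
      rw [mul_left_comm]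
      have : r * ∏ i ∈ d.support,
          QuadGrp.coeffs (Pi.basisFun R (Fin n)) (LinearEquiv.refl R R) Q i ^ d i = 0 := by
        apply mul_prod_pow_eq_zero _ d _ z hz
        induction z using Sym2.ind with
        | _ i j =>
          have hij : i ≠ j := fun h => hzd (Sym2.mk_isDiag_iff.2 h)
          rw [QuadGrp.coeffs_mk, if_neg hij, LinearEquiv.refl_apply]
          exact hr _ _
      rw [this, mul_zero]
  exact (hQ.mul_left_eq_zero).1 hzero

theorem polarFaithful_of_isNondeg (hn : 2 ≤ n) (Q : QuadraticForm R (Fin n → R))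
    (hQ : QuadGrp.IsNondeg (Pi.basisFun R (Fin n)) (LinearEquiv.refl R R) Q) :
    PolarFaithful Q := by
  rcases Nat.even_or_odd n with he | ho
  · exact polarFaithful_of_isRegular (by omega) (hQ.1 he)
  · exact polarFaithful_of_isSemiregular hn Q (hQ.2 ho)

end Faithful

end Groth.Agent.H7.QG
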