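import Mathlib.RingTheory.MvPolynomial.MonomialOrder
import Mathlib.RingTheory.MvPolynomial.MonomialOrder.DegLex
import Mathlib.SetTheory.Cardinal.Order

/-! McCoy's theorem for multivariate polynomials (helper7). -/

set_option autoImplicit false

namespace Groth.Agent.H7.McCoy

open MvPolynomial

variable {σ R : Type*} [CommRing R]

theorem key (m : MonomialOrder σ) (P G : MvPolynomial σ R) (s₀ : σ →₀ ℕ)
    (hmax : ∀ a, m.toSyn s₀ < m.toSyn a → C (P.coeff a) * G = 0) (hPG : P * G = 0) :
    P.coeff s₀ * G.coeff (m.degree G) = 0 := by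
  classical
  have h0 : coeff (s₀ + m.degree G) (P * G) = 0 := by rw [hPG, coeff_zero]
  rw [coeff_mul, Finset.sum_eq_single (s₀, m.degree G)] at h0
  · exact h0
  · rintro ⟨a, b⟩ hab hne
    rw [Finset.mem_antidiagonal] at hab
    simp only at hab ⊢
    rcases lt_trichotomy (m.toSyn a) (m.toSyn s₀) with hlt | heq | hgt
    · -- then b > d
      have hb : m.toSyn (m.degree G) < m.toSyn b := by
        by_contra hle
        rw [not_lt] at hle
        have h1 : m.toSyn a + m.toSyn b < m.toSyn s₀ + m.toSyn (m.degree G) :=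
          add_lt_add_of_lt_of_le hlt hle
        rw [← map_add, ← map_add, hab] at h1
        exact lt_irrefl _ h1
      rw [m.coeff_eq_zero_of_lt hb, mul_zero]
    · have ha : a = s₀ := m.toSyn.injective heq
      subst ha
      have hb : b = m.degree G := add_left_cancel hab
      subst hb
      exact absurd rfl hne
    · have h2 := congrArg (coeff b) (hmax a hgt)
      rwa [coeff_C_mul, coeff_zero] at h2
  · intro hnot
    exfalso
    apply hnot
    rw [Finset.mem_antidiagonal]

theorem card_lt (m : MonomialOrder σ) (G : MvPolynomial σ R) (hG : G ≠ 0) (c : R)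
    (hc : c * G.coeff (m.degree G) = 0) :
    (C c * G).support.card < G.support.card := by
  classical
  have hdsupp : m.degree G ∈ G.support := m.degree_mem_support hG
  have hsub : (C c * G).support ⊆ G.support.erase (m.degree G) := by
    intro b hb
    rw [MvPolynomial.mem_support_iff, coeff_C_mul] at hb
    rw [Finset.mem_erase, MvPolynomial.mem_support_iff]
    refine ⟨?_, fun h0 => hb (by rw [h0, mul_zero])⟩
    rintro rfl
    exact hb hc
  have h1 := Finset.card_le_card hsub
  rw [Finset.card_erase_of_mem hdsupp] at h1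
  have h2 : 0 < G.support.card := Finset.card_pos.2 ⟨_, hdsupp⟩
  omega

theorem claim (m : MonomialOrder σ) (P G : MvPolynomial σ R) (hG : G ≠ 0)
    (ih : ∀ G' : MvPolynomial σ R, G'.support.card < G.support.card → P * G' = 0 → G' = 0)
    (hPG : P * G = 0) : ∀ s, C (P.coeff s) * G = 0 := by
  classical
  by_contra hcon
  rw [not_forall] at hcon
  obtain ⟨s₁, hs₁⟩ := hcon
  have hSne : (P.support.filter (fun s => C (P.coeff s) * G ≠ 0)).Nonempty := by
    refine ⟨s₁, Finset.mem_filter.2 ⟨?_, hs₁⟩⟩
    rw [MvPolynomial.mem_support_iff]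
    intro h0
    apply hs₁
    rw [h0, map_zero, zero_mul]
  obtain ⟨s₀, hs₀S, hs₀max⟩ := Finset.exists_max_image _ (fun s => m.toSyn s) hSne
  have hs₀ := (Finset.mem_filter.1 hs₀S).2
  have hmax : ∀ a, m.toSyn s₀ < m.toSyn a → C (P.coeff a) * G = 0 := by
    intro a hgt
    by_cases haP : a ∈ P.support
    · by_contra h2
      exact absurd (hs₀max a (Finset.mem_filter.2 ⟨haP, h2⟩)) (not_le.2 hgt)
    · rw [MvPolynomial.notMem_support_iff.1 haP, map_zero, zero_mul]
  have hcoef := key m P G s₀ hmax hPG
  have hzero : P * (C (P.coeff s₀) * G) = 0 := by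
    rw [mul_left_comm, hPG, mul_zero]
  exact hs₀ (ih _ (card_lt m G hG _ hcoef) hzero)

theorem eq_zero_of_mul_eq_zero_aux (m : MonomialOrder σ) (P : MvPolynomial σ R)
    (hP : ∀ r : R, C r * P = 0 → r = 0) :
    ∀ (N : ℕ) (G : MvPolynomial σ R), G.support.card < N → P * G = 0 → G = 0 := by
  intro N
  induction N with
  | zero =>
    intro G hG _
    exact absurd hG (Nat.not_lt_zero _)
  | succ N ih =>
    intro G hG hPG
    by_contra hG0
    have hclaim := claim m P G hG0 (fun G' hG' => ih G' (by omega)) hPG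
    apply hG0
    ext b
    rw [coeff_zero]
    apply hP
    ext s
    rw [coeff_C_mul, coeff_zero]
    have := congrArg (coeff b) (hclaim s)
    rw [coeff_C_mul, coeff_zero] at this
    rw [mul_comm]; exact this

/-- **McCoy**: a multivariate polynomial killed by no nonzero constant is a nonzerodivisor. -/
theorem eq_zero_of_mul_eq_zero (P : MvPolynomial σ R)
    (hP : ∀ r : R, C r * P = 0 → r = 0) (G : MvPolynomial σ R) (h : P * G = 0) : G = 0 := by
  obtain ⟨_, _⟩ := exists_wellFoundedGT σ
  exact eq_zero_of_mul_eq_zero_aux (MonomialOrder.degLex (σ := σ)) P hP _ G (Nat.lt_succ_self _) h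

theorem eq_zero_of_pow_mul_eq_zero (P : MvPolynomial σ R)
    (hP : ∀ r : R, C r * P = 0 → r = 0) (k : ℕ) (G : MvPolynomial σ R) (h : P ^ k * G = 0) :
    G = 0 := by
  induction k with
  | zero => simpa using h
  | succ k ih =>
    apply ih
    apply eq_zero_of_mul_eq_zero P hP
    rw [← mul_assoc, ← pow_succ']
    exact h

end Groth.Agent.H7.McCoy
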