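import Groth.Agent.Lib.Helper7.QuadGrp.Generic
import Groth.Agent.Lib.Helper7.QuadGrp.McCoy

/-! The universal polynomials for generic reflections (helper7). -/

set_option autoImplicit false

namespace Groth.Agent.H7.QG

open TensorProduct MvPolynomial

universe u
variable {R : Type u} [CommRing R] {n : ℕ}

section Poly

variable (β : LinearMap.BilinMap R (Fin n → R) R)

/-- `∑ βᵢⱼ xᵢ xⱼ` -/
noncomputable def qpoly : MvPolynomial (Fin n ⊕ Fin n) R :=
  ∑ i, ∑ j, C (β (Pi.single i 1) (Pi.single j 1)) * (X (Sum.inl i) * X (Sum.inl j))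

/-- `∑ (βₐᵢ + βᵢₐ) xₐ yᵢ` -/
noncomputable def lpoly : MvPolynomial (Fin n ⊕ Fin n) R :=
  ∑ a, ∑ i, C (β (Pi.single a 1) (Pi.single i 1) + β (Pi.single i 1) (Pi.single a 1)) *
    (X (Sum.inl a) * X (Sum.inr i))

/-- `∑ g(eᵢ)ⱼ xᵢ` -/
noncomputable def gpoly (g : (Fin n → R) ≃ₗ[R] (Fin n → R)) (j : Fin n) :
    MvPolynomial (Fin n ⊕ Fin n) R :=
  ∑ i, C (g (Pi.single i 1) j) * X (Sum.inl i)

variable (A : Type*) [CommRing A] [Algebra R A] (ξ : Fin n ⊕ Fin n → A)

theorem aeval_qpoly : aeval ξ (qpoly β) =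
    ∑ i, ∑ j, β (Pi.single i 1) (Pi.single j 1) • (ξ (Sum.inl i) * ξ (Sum.inl j)) := by
  simp [qpoly, Algebra.smul_def]

theorem aeval_lpoly : aeval ξ (lpoly β) =
    ∑ a, ∑ i, (β (Pi.single a 1) (Pi.single i 1) + β (Pi.single i 1) (Pi.single a 1)) •
      (ξ (Sum.inl a) * ξ (Sum.inr i)) := by
  simp [lpoly, Algebra.smul_def]

theorem aeval_gpoly (g : (Fin n → R) ≃ₗ[R] (Fin n → R)) (j : Fin n) :
    aeval ξ (gpoly g j) = ∑ i, g (Pi.single i 1) j • ξ (Sum.inl i) := by
  simp [gpoly, Algebra.smul_def]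

theorem bilin_expand (x y : Fin n → R) :
    β x y = ∑ i, ∑ j, β (Pi.single i 1) (Pi.single j 1) * (x i * y j) := by
  conv_lhs => rw [← (Pi.basisFun R (Fin n)).sum_repr x, ← (Pi.basisFun R (Fin n)).sum_repr y]
  simp only [Pi.basisFun_repr, Pi.basisFun_apply, map_sum, LinearMap.sum_apply, map_smul,
    LinearMap.smul_apply, smul_eq_mul, Finset.mul_sum]
  rw [Finset.sum_comm]
  refine Finset.sum_congr rfl fun i _ => Finset.sum_congr rfl fun j _ => ?_
  ring

theorem eval_qpoly (x y : Fin n → R) : eval (Sum.elim x y) (qpoly β) = β x x := by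
  rw [bilin_expand β x x]
  simp [qpoly]

theorem eval_lpoly (x y : Fin n → R) : eval (Sum.elim x y) (lpoly β) = β x y + β y x := by
  rw [bilin_expand β x y, bilin_expand β y x]
  simp only [lpoly, map_sum, map_mul, eval_C, eval_X, Sum.elim_inl, Sum.elim_inr]
  rw [Finset.sum_comm (f := fun i j => β (Pi.single i 1) (Pi.single j 1) * (y i * x j)),
    ← Finset.sum_add_distrib]
  refine Finset.sum_congr rfl fun a _ => ?_
  rw [← Finset.sum_add_distrib]
  refine Finset.sum_congr rfl fun i _ => ?_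
  ring

theorem eval_gpoly (g : (Fin n → R) ≃ₗ[R] (Fin n → R)) (j : Fin n) (x y : Fin n → R) :
    eval (Sum.elim x y) (gpoly g j) = g x j := by
  conv_rhs => rw [← (Pi.basisFun R (Fin n)).sum_repr x]
  simp only [gpoly, map_sum, map_mul, eval_C, eval_X, Sum.elim_inl, Pi.basisFun_repr,
    Pi.basisFun_apply, map_smul, Finset.sum_apply, Pi.smul_apply, smul_eq_mul]
  refine Finset.sum_congr rfl fun i _ => ?_
  ring

end Poly

end Groth.Agent.H7.QG
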