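import Groth.Prelude.Def_QuadGrp
import Mathlib.LinearAlgebra.Reflection

/-! Reflections as isometries of quadratic maps with trivialised values (helper7). -/

set_option autoImplicit false

namespace Groth.Agent.H7.QG

variable {A : Type*} [CommRing A] {M' N' : Type*} [AddCommGroup M'] [Module A M']
  [AddCommGroup N'] [Module A N']

/-- the functional `w ↦ u⁻¹ t(B(v,w))` -/
noncomputable def reflFun (Q' : QuadraticMap A M' N') (t : N' ≃ₗ[A] A) (v : M') (u : Aˣ) :
    Module.Dual A M' :=
  (↑u⁻¹ : A) • (t.toLinearMap ∘ₗ QuadraticMap.polarBilin Q' v)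

theorem reflFun_apply (Q' : QuadraticMap A M' N') (t : N' ≃ₗ[A] A) (v : M') (u : Aˣ) (w : M') :
    reflFun Q' t v u w = (↑u⁻¹ : A) * t (QuadraticMap.polar Q' v w) := by
  simp [reflFun]

theorem reflFun_self (Q' : QuadraticMap A M' N') (t : N' ≃ₗ[A] A) (v : M') (u : Aˣ)
    (hu : t (Q' v) = u) : reflFun Q' t v u v = 2 := by
  rw [reflFun_apply, QuadraticMap.polar_self, map_nsmul, hu, nsmul_eq_mul, mul_left_comm,
    Units.inv_mul, mul_one]
  norm_num

/-- the reflection in a vector `v` with `t (Q v)` a unit -/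
noncomputable def refl (Q' : QuadraticMap A M' N') (t : N' ≃ₗ[A] A) (v : M') (u : Aˣ)
    (hu : t (Q' v) = u) : M' ≃ₗ[A] M' :=
  Module.reflection (reflFun_self Q' t v u hu)

theorem refl_apply (Q' : QuadraticMap A M' N') (t : N' ≃ₗ[A] A) (v : M') (u : Aˣ)
    (hu : t (Q' v) = u) (w : M') :
    refl Q' t v u hu w = w - ((↑u⁻¹ : A) * t (QuadraticMap.polar Q' v w)) • v := by
  rw [refl, Module.reflection_apply, reflFun_apply]

theorem refl_mem_O (Q' : QuadraticMap A M' N') (t : N' ≃ₗ[A] A) (v : M') (u : Aˣ)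
    (hu : t (Q' v) = u) : refl Q' t v u hu ∈ QuadGrp.O Q' := by
  rw [QuadGrp.mem_O]
  intro w
  rw [refl_apply]
  set c : A := (↑u⁻¹ : A) * t (QuadraticMap.polar Q' v w) with hc
  rw [sub_eq_add_neg, ← neg_smul, QuadraticMap.map_add (⇑Q'), QuadraticMap.map_smul,
    QuadraticMap.polar_smul_right, add_assoc]
  have : (-c * -c) • Q' v + -c • QuadraticMap.polar Q' w v = 0 := by
    apply t.injective
    rw [map_add, map_smul, map_smul, map_zero, hu, QuadraticMap.polar_comm Q' w v, smul_eq_mul,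
      smul_eq_mul]
    have h1 : (u : A) * c = t (QuadraticMap.polar Q' v w) := by
      rw [hc, ← mul_assoc, Units.mul_inv, one_mul]
    rw [← h1]
    ring
  rw [this, add_zero]

theorem comm_consequence (Q' : QuadraticMap A M' N') (t : N' ≃ₗ[A] A) (v : M') (u : Aˣ)
    (hu : t (Q' v) = u) (G : M' ≃ₗ[A] M') (hG : G * refl Q' t v u hu = refl Q' t v u hu * G)
    (w : M') :
    t (QuadraticMap.polar Q' v w) • G v = t (QuadraticMap.polar Q' v (G w)) • v := by
  have h1 := congrArg (fun e : M' ≃ₗ[A] M' => e w) hG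
  simp only [LinearEquiv.mul_apply] at h1
  rw [refl_apply, refl_apply, map_sub, map_smul, sub_right_inj] at h1
  have h2 := congrArg (fun z => (u : A) • z) h1
  simp only [smul_smul, ← mul_assoc, Units.mul_inv, one_mul] at h2
  exact h2

end Groth.Agent.H7.QG
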